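import Cfsg.Agent.HHS52.Step0.Alg
import Cfsg.Agent.HHS52.Step0.Quot0

/-!
F6 in the shape used by `Quot0`.
-/

set_option autoImplicit false

namespace Cfsg.Agent.HHS52

/-- F6, read in `G`. -/
theorem Pre.alg_quot {G : Type*} [Group G] [Finite G] (P : Pre G) : P.Alg := by
  intro _ h4 htrans hr hline
  have h := Subgroup.relIndex_mul_relIndex ⊥ (P.Φ ⊓ P.Z0) P.Φ bot_le inf_le_left
  rw [Subgroup.relIndex_bot_left, Subgroup.relIndex_bot_left, Subgroup.inf_relIndex_left] at h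
  have hpos : 0 < Nat.card ↥(P.Φ ⊓ P.Z0) := Nat.card_pos
  have ht : Nat.card P.Φ / Nat.card ↥(P.Φ ⊓ P.Z0) = P.Z0.relIndex P.Φ := by
    conv_lhs => rw [← h]
    exact Nat.mul_div_cancel_left _ hpos
  refine P.alg ?_ htrans (ht ▸ hr) hline
  rw [← ht]
  exact (Nat.le_div_iff_mul_le hpos).mpr h4

end Cfsg.Agent.HHS52
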