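import Cfsg.Agent.HHS52.Count
import Cfsg.Agent.HHS52.Fusion
import Cfsg.Agent.HHS52.MSub
import Cfsg.Agent.HHS52.Step0.MSub0
import Cfsg.Agent.HHS52.Step0.Partner
import Cfsg.Agent.HHS52.Step0.Small0
import Cfsg.Agent.HHS52.Step0.TheoremA

/-!
Step 0 (F7) of `STEP0.md`: a weak configuration does not exist, given the outer lemma.
-/

set_option autoImplicit false

namespace Cfsg.Agent.HHS52

variable {G : Type*} [Group G] [Finite G]

/-- The goal of Step 0, given the outer lemma. -/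
theorem Cfg0.hD_of_outerLemma (c : Cfg0 G)
    (houter : ∀ d : c.MData, ∀ z ∈ c.Φ, z ≠ 1 → ∀ g : G, g * z * g⁻¹ ∈ d.M → g ∈ d.M) :
    ∀ z ∈ c.Φ, ∀ d ∈ c.D, c.cm z d := by
  rcases Small0.four_le_or c (fun x hx z hz _ g hg => c.mem_Φ_of_conj hx hz hg) with h | h4
  · exact h
  obtain ⟨m⟩ := c.exists_mData h4
  exact Cfg0.Partner.hD_of_outer (d := m) (houter m)

/-- A weak configuration does not exist, given the outer lemma. -/
theorem Cfg0.false_of_outerLemma (c : Cfg0 G)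
    (houter : ∀ d : c.MData, ∀ z ∈ c.Φ, z ≠ 1 → ∀ g : G, g * z * g⁻¹ ∈ d.M → g ∈ d.M) :
    False := by
  set c' := c.toCfg (c.hD_of_outerLemma houter)
  obtain ⟨m⟩ := Cfsg.Agent.HHS52.exists_mData c' (Cfsg.Agent.HHS52.four_le c')
  obtain ⟨s⟩ := Cfsg.Agent.HHS52.exists_seData c' m
  exact Cfsg.Agent.HHS52.false_of_seData c' s

end Cfsg.Agent.HHS52
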