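import Cfsg.Agent.HHS52.Step0.Outer
import Cfsg.Agent.HHS52.Step0.MSub0
import Cfsg.Agent.HHS52.Step0.Small0
import Cfsg.Agent.HHS52.Step0.FormsAll
import Cfsg.Agent.HHS52.MSub
import Cfsg.Agent.HHS52.Fusion
import Cfsg.Agent.HHS52.Count

/-!
A weak configuration does not exist, so there is no minimal counterexample.
-/

set_option autoImplicit false

namespace Cfsg.Agent.HHS52

universe u

/-- There is no `Cfg`. -/
theorem Cfg.not_exists {G : Type u} [Group G] [Finite G] (c : Cfg G) : False := by
  obtain ⟨d⟩ := exists_mData c (four_le c)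
  obtain ⟨e⟩ := exists_seData c d
  exact false_of_seData c e

/-- There is no `Cfg0`. -/
theorem Cfg0.not_exists {G : Type u} [Group G] [Finite G] (c : Cfg0 G) : False := by
  rcases c.hD_or_four_le with hD | h4
  · exact (c.toCfg hD).not_exists
  · obtain ⟨d⟩ := c.exists_mData h4
    exact (c.toCfg (Cfg0.hD_of_mData d)).not_exists

/-- There is no minimal counterexample over an algebraically closed field. -/
theorem Min.not_exists {G : Type u} [Group G] [Finite G] {k : Type*} [Field k] {V : Type*}
    [AddCommGroup V] [_root_.Module k V] [IsAlgClosed k] [FiniteDimensional k V] (M : Min G k V) :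
    False :=
  Quot0.false_of_min' M fun _ _ _ c => c.not_exists

end Cfsg.Agent.HHS52
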